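import Groth.Agent.FibreVanishQC.Main
import Groth.Agent.S18879
import Groth.Agent.S1688

/-!
# The fibres of a modification of a two-dimensional base have dimension at most one
-/

set_option autoImplicit false
set_option backward.isDefEq.respectTransparency false
set_option linter.style.haveILetI false
set_option maxHeartbeats 800000

universe u

open CategoryTheory AlgebraicGeometry TopologicalSpace Order

noncomputable section

namespace Groth.Agent.ModifDimLib

variable {X S : Scheme.{u}} [IsIntegral X] [IsIntegral S] (f : X ⟶ S) {U : S.Opens}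

/-- A map of integral schemes which is an isomorphism over a nonempty open is birational. -/
theorem isBirational_of_isIso (hU : (U : Set S).Nonempty) (h : IsIso (f ∣_ U)) : RadPt.IsBirational f := by
  haveI := h
  obtain ⟨y₀, hy₀⟩ := hU
  have hηS : genericPoint S ∈ U := (genericPoint_specializes y₀).mem_open U.2 hy₀
  obtain ⟨z, hz⟩ := (f ∣_ U).surjective ⟨genericPoint S, hηS⟩
  have hz' : f z.1 = genericPoint S :=
    (morphismRestrict_base_coe f U z).symm.trans (congrArg Subtype.val hz)
  have hηX : f (genericPoint X) = genericPoint S := by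
    have h1 : f (genericPoint X) ⤳ genericPoint S := hz' ▸ (genericPoint_specializes z.1).map f.continuous
    exact (h1.antisymm (genericPoint_specializes _)).eq
  have hinj : ∀ x x' : X, f x = genericPoint S → f x' = genericPoint S → x = x' := fun x x' hx hx' => by
    have e : (f ∣_ U) ⟨x, show f x ∈ U from hx.symm ▸ hηS⟩ = (f ∣_ U) ⟨x', show f x' ∈ U from hx'.symm ▸ hηS⟩ :=
      Subtype.ext ((morphismRestrict_base_coe f U ⟨x, show f x ∈ U from hx.symm ▸ hηS⟩).trans
        (hx.trans (hx'.symm.trans (morphismRestrict_base_coe f U ⟨x', show f x' ∈ U from hx'.symm ▸ hηS⟩).symm)))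
    exact congrArg Subtype.val ((f ∣_ U).isOpenEmbedding.injective e)
  refine ⟨?_, fun y hy => ?_⟩
  · rw [genericPoints_eq_singleton, genericPoints_eq_singleton, Set.bijOn_singleton]
    exact hηX
  · rw [genericPoints_eq_singleton, Set.mem_singleton_iff] at hy
    subst hy
    refine ⟨hinj, fun x hx => ?_⟩
    let x' : (f ⁻¹ᵁ U : X.Opens) := ⟨x, show f x ∈ U from hx.symm ▸ hηS⟩
    have h1 : IsIso (((f ⁻¹ᵁ U).ι ≫ f).residueFieldMap x') := by
      haveI : IsOpenImmersion ((f ∣_ U) ≫ U.ι) := inferInstance
      have e : (f ∣_ U) ≫ U.ι = (f ⁻¹ᵁ U).ι ≫ f := morphismRestrict_ι f U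
      haveI : IsOpenImmersion ((f ⁻¹ᵁ U).ι ≫ f) := e ▸ inferInstance
      infer_instance
    rw [Scheme.residueFieldMap_comp] at h1
    haveI := h1
    haveI : IsIso (f.residueFieldMap x) :=
      IsIso.of_isIso_comp_right (f.residueFieldMap ((f ⁻¹ᵁ U).ι x')) ((f ⁻¹ᵁ U).ι.residueFieldMap x')
    exact ConcreteCategory.bijective_of_isIso (f.residueFieldMap x)

variable [IsLocallyNoetherian S] [CompactSpace S] [S.IsSeparated] [IsProper f]

/-- Fibres of a modification of a base of dimension at most two. -/
theorem fibre_dim_le_one (hS : ∀ s : S, ringKrullDim (S.presheaf.stalk s) ≤ 2)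
    (hU : (U : Set S).Nonempty) (h : IsIso (f ∣_ U)) (s : S) :
    topologicalKrullDim ↥(f.fiber s) ≤ (1 : ℕ) := by
  haveI : AlgebraicGeometry.IsNoetherian S := { }
  haveI : IsLocallyNoetherian X := LocallyOfFiniteType.isLocallyNoetherian f
  haveI : CompactSpace X := QuasiCompact.compactSpace_of_compactSpace f
  haveI : AlgebraicGeometry.IsNoetherian X := { }
  haveI : X.IsSeparated := ⟨by rw [← Limits.terminal.comp_from f]; infer_instance⟩
  have hbir := isBirational_of_isIso f hU h
  rw [ASp.topologicalKrullDim_eq_krullDim]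
  unfold Order.krullDim
  refine iSup_le fun q => ?_
  by_contra hlt
  have hlen : 2 ≤ q.length := by
    by_contra h2
    exact hlt (WithBot.coe_le_coe.2 (by exact_mod_cast (show q.length ≤ 1 by omega)))
  let i0 : Fin (q.length + 1) := ⟨0, by omega⟩
  let i1 : Fin (q.length + 1) := ⟨1, by omega⟩
  let i2 : Fin (q.length + 1) := ⟨2, by omega⟩
  let g := f.fiberι s
  have hmono : ∀ a b : f.fiber s, a < b → g a < g b := fun a b hab => by
    obtain ⟨h1, h2⟩ := lt_iff_le_not_ge.1 hab
    refine lt_iff_le_not_ge.2 ⟨Scheme.le_iff_specializes.2 ((Scheme.le_iff_specializes.1 h1).map g.continuous),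
      fun h' => h2 (Scheme.le_iff_specializes.2 ?_)⟩
    exact g.isEmbedding.isInducing.specializes_iff.1 (Scheme.le_iff_specializes.1 h')
  have h01 : g (q i0) < g (q i1) := hmono _ _ (q.strictMono (show i0 < i1 from Nat.lt_succ_self 0))
  have h12 : g (q i1) < g (q i2) := hmono _ _ (q.strictMono (show i1 < i2 from Nat.lt_succ_self 1))
  have hfib : ∀ a : f.fiber s, f (g a) = s := fun a => by
    have : g a ∈ Set.range g := ⟨a, rfl⟩
    rw [f.range_fiberι s] at this
    exact this
  -- the codimension of the smallest point is at most two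
  have h2 := (Groth.Agent.S18879.result f hbir (g (q i0))).trans (hS _)
  rw [ringKrullDim_stalk_eq_coheight] at h2
  have hle : coheight (g (q i0)) ≤ 2 := WithBot.coe_le_coe.1 h2
  -- so the largest is the generic point
  have hmax : g (q i2) = genericPoint X := by
    by_contra hne
    have hη : g (q i2) < genericPoint X := lt_iff_le_not_ge.2
      ⟨Scheme.le_iff_specializes.2 (genericPoint_specializes _), fun h' =>
        hne (((Scheme.le_iff_specializes.1 h').antisymm (genericPoint_specializes _)).eq)⟩
    let p : LTSeries X := ⟨3, ![g (q i0), g (q i1), g (q i2), genericPoint X], fun i => by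
      fin_cases i <;> assumption⟩
    have h3 : ((3 : ℕ) : ℕ∞) ≤ coheight (g (q i0)) := length_le_coheight (p := p) le_rfl
    exact absurd (h3.trans hle) (by decide)
  -- and the fibre is the generic one
  obtain ⟨y₀, hy₀⟩ := hU
  have hηS : genericPoint S ∈ (genericPoints S) := by rw [genericPoints_eq_singleton]; rfl
  have hs : s = genericPoint S := by
    rw [← hfib (q i2), hmax]
    have := hbir.1.mapsTo (show genericPoint X ∈ genericPoints X by rw [genericPoints_eq_singleton]; rfl)
    rwa [genericPoints_eq_singleton] at this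
  exact h12.ne ((hbir.2 (genericPoint S) hηS).1 _ _ ((hfib _).trans hs) ((hfib _).trans hs))

end Groth.Agent.ModifDimLib
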